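import Cfsg.Agent.H198.FC.Defs

/-!
# S5764 [RIGID5]: five rigid subspaces, moving flags by `SL(V)`, duality (helper246)

`rigid5`: for `A ≤ V₀ ≤ V`, `dim A = a`, `dim V₀ = 2a`, `2a+1` (`a ≥ 2`) or `3a`, there are five subspaces `B i` of `V₀` of
dimension `a`, `B 0 = A`, such that every semilinear bijection fixing them is a homothety on `V₀`.
-/

set_option autoImplicit false

namespace Cfsg.Agent.H246.FC

open Cfsg.Agent.H198.FC Module

universe u v w

section gen

variable {K : Type u} [Field K] {W : Type w} [AddCommGroup W] [Module K W]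

/-- every injective semilinear map commuting with `X` and `Y` is a homothety -/
def Gen (X Y : W →ₗ[K] W) : Prop :=
  ∀ (g : W → W) (σ : K ≃+* K), (∀ z w, g (z + w) = g z + g w) → (∀ (c : K) z, g (c • z) = σ c • g z) →
    Function.Injective g → (∀ z, g (X z) = X (g z)) → (∀ z, g (Y z) = Y (g z)) → ∃ c : K, ∀ z, g z = c • z

/-- the additive map of a semilinear map -/
theorem g_sum {g : W → W} (hg : ∀ z w, g (z + w) = g z + g w) {ι : Type*} (s : Finset ι) (f : ι → W) :
    g (∑ i ∈ s, f i) = ∑ i ∈ s, g (f i) := by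
  classical
  let G : W →+ W := AddMonoidHom.mk' g hg
  exact map_sum G f s

theorem semilin_eq_smul {n : ℕ} (b : Basis (Fin n) K W) {g : W → W} (hg : ∀ z w, g (z + w) = g z + g w)
    (hs : ∀ (c : K) z, g (c • z) = c • g z) {c : K} (h : ∀ i, g (b i) = c • b i) (z : W) : g z = c • z := by
  conv_lhs => rw [← b.sum_repr z]
  conv_rhs => rw [← b.sum_repr z]
  rw [g_sum hg, Finset.smul_sum]
  refine Finset.sum_congr rfl fun i _ => ?_
  rw [hs, h, smul_comm]

/-- `X` is a shift (`b_{j+1} ↦ b_j`), `Y = γ b_last ⊗ b_0^*` -/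
theorem gen_of {n : ℕ} (b : Basis (Fin (n + 1)) K W) {γ : K}
    (hγ : ∀ σ : K ≃+* K, σ γ = γ → σ = RingEquiv.refl K)
    (hγ0 : γ ≠ 0) (X Y : W →ₗ[K] W) (hX : ∀ j : Fin n, X (b j.succ) = b j.castSucc)
    (hY0 : Y (b 0) = γ • b (Fin.last n)) (hY : ∀ j : Fin n, Y (b j.succ) = 0) : Gen X Y := by
  intro g σ hg hs hinj hgX hgY
  have hg0 : g 0 = 0 := by
    have := hs 0 0
    simpa using this
  have hYall : ∀ v, Y v = (b.repr v 0 * γ) • b (Fin.last n) := by
    intro v
    conv_lhs => rw [← b.sum_repr v]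
    rw [map_sum, Fin.sum_univ_succ]
    simp [hY0, hY, smul_smul]
  have h1 : σ γ • g (b (Fin.last n)) = (b.repr (g (b 0)) 0 * γ) • b (Fin.last n) := by
    rw [← hs, ← hY0, hgY, hYall]
  have hσγ : σ γ ≠ 0 := fun h => hγ0 (by simpa using h)
  obtain ⟨c, hc⟩ : ∃ c : K, g (b (Fin.last n)) = c • b (Fin.last n) := by
    refine ⟨(σ γ)⁻¹ * (b.repr (g (b 0)) 0 * γ), ?_⟩
    rw [mul_smul, ← h1, smul_smul, inv_mul_cancel₀ hσγ, one_smul]
  have hall : ∀ i, g (b i) = c • b i := by
    intro i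
    induction i using Fin.reverseInduction with
    | last => exact hc
    | cast j ih => rw [← hX, hgX, ih, map_smul]
  have hc0 : c ≠ 0 := by
    rintro rfl
    have h2 := hall 0
    rw [zero_smul, ← hg0] at h2
    exact b.ne_zero 0 (hinj h2)
  have h3 : σ γ = γ := by
    rw [hall 0, hall (Fin.last n), smul_smul] at h1
    have h4 : (σ γ * c - b.repr (c • b 0) 0 * γ) • b (Fin.last n) = 0 := by
      rw [sub_smul, h1, sub_self]
    rcases smul_eq_zero.1 h4 with h5 | h5
    · have h6 : b.repr (c • b 0) 0 = c := by simp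
      rw [h6] at h5
      have h7 : c * (σ γ - γ) = 0 := by linear_combination h5
      rcases mul_eq_zero.1 h7 with h8 | h8
      · exact absurd h8 hc0
      · exact sub_eq_zero.1 h8
    · exact absurd h5 (b.ne_zero _)
  have h4 := hγ σ h3
  subst h4
  exact ⟨c, semilin_eq_smul b hg (fun c z => hs c z) hall⟩

theorem exists_gamma (K : Type u) [Field K] [Finite K] :
    ∃ γ : K, γ ≠ 0 ∧ ∀ σ : K ≃+* K, σ γ = γ → σ = RingEquiv.refl K := by
  obtain ⟨g, hg⟩ := IsCyclic.exists_generator (α := Kˣ)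
  refine ⟨g, g.ne_zero, fun σ h => ?_⟩
  apply RingEquiv.ext
  intro x
  by_cases hx : x = 0
  · simp [hx]
  obtain ⟨n, hn⟩ := hg (Units.mk0 x hx)
  have h1 : Units.map (σ : K →* K) g = g := Units.ext h
  have h2 : Units.map (σ : K →* K) (Units.mk0 x hx) = Units.mk0 x hx := by
    rw [← hn]
    change Units.map (σ : K →* K) (g ^ n) = g ^ n
    rw [map_zpow, h1]
  exact congrArg Units.val h2

theorem Gen.symm {X Y : W →ₗ[K] W} (h : Gen X Y) : Gen Y X :=
  fun g σ hg hs hinj h1 h2 => h g σ hg hs hinj h2 h1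

theorem Gen.one_add {X Y : W →ₗ[K] W} (h : Gen X Y) : Gen X (1 + Y) := by
  intro g σ hg hs hinj h1 h2
  refine h g σ hg hs hinj h1 fun z => ?_
  have h3 := h2 z
  simp only [LinearMap.add_apply, Module.End.one_apply] at h3
  rw [hg] at h3
  exact add_left_cancel h3

theorem Gen.one_add' {X Y : W →ₗ[K] W} (h : Gen X Y) : Gen (1 + X) Y := h.symm.one_add.symm

end gen

section five

variable {K : Type u} [Field K] {V : Type v} [AddCommGroup V] [Module K V] {W : Type w} [AddCommGroup W] [Module K W]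

/-- a homothety factor of a semilinear bijection on the range of an injective map can be chosen `≠ 0` -/
theorem unit_of {U : Type*} [AddCommGroup U] [Module K U] (ι : U →ₗ[K] V)
    (k : Equiv.Perm V) (hk0 : k 0 = 0) (c : K) (h : ∀ z, k (ι z) = c • ι z) : ∃ c : Kˣ, ∀ z, k (ι z) = (c : K) • ι z := by
  by_cases hc : c = 0
  · refine ⟨1, fun z => ?_⟩
    have h1 : k (ι z) = k 0 := by rw [h, hc, zero_smul, hk0]
    have h2 : ι z = 0 := k.injective h1
    rw [h2, hk0, smul_zero]
  · exact ⟨Units.mk0 c hc, h⟩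

theorem rigid2 (ι : W × W →ₗ[K] V) (hι : Function.Injective ι) (X Y : W →ₗ[K] W) (hXY : Gen X Y)
    (k : Equiv.Perm V) (hk : k ∈ Semi K V) (h0 : ∀ z, ∃ z', k (ι (z, 0)) = ι (z', 0))
    (h1 : ∀ z, ∃ z', k (ι (0, z)) = ι (0, z')) (h2 : ∀ z, ∃ z', k (ι (z, z)) = ι (z', z'))
    (h3 : ∀ z, ∃ z', k (ι (z, X z)) = ι (z', X z')) (h4 : ∀ z, ∃ z', k (ι (z, Y z)) = ι (z', Y z')) :
    ∃ c : Kˣ, ∀ z, k (ι z) = (c : K) • ι z := by
  obtain ⟨hadd, σ, hs⟩ := hk
  have hk0 : k 0 = 0 := by simpa using hs 0 0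
  choose g hg using h0
  choose g' hg' using h1
  have hgg : ∀ z, g z = g' z := by
    intro z
    obtain ⟨z', hz'⟩ := h2 z
    have e : (z, z) = ((z, 0) : W × W) + (0, z) := by simp
    rw [e, map_add, hadd, hg, hg', ← map_add] at hz'
    have := hι hz'
    simp only [Prod.mk_add_mk, add_zero, zero_add, Prod.mk.injEq] at this
    rw [this.1, this.2]
  have key : ∀ z w, k (ι (z, w)) = ι (g z, g w) := by
    intro z w
    have e : (z, w) = ((z, 0) : W × W) + (0, w) := by simp
    rw [e, map_add, hadd, hg, hg', ← map_add, ← hgg]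
    simp
  have gadd : ∀ z w, g (z + w) = g z + g w := by
    intro z w
    have h5 : k (ι (z + w, 0)) = ι (g z + g w, 0) := by
      have e : ((z + w, 0) : W × W) = (z, 0) + (w, 0) := by simp
      rw [e, map_add, hadd, hg, hg, ← map_add]
      simp
    rw [hg] at h5
    exact (Prod.mk.inj (hι h5)).1
  have gsmul : ∀ (c : K) z, g (c • z) = σ c • g z := by
    intro c z
    have h5 : k (ι (c • z, 0)) = ι (σ c • g z, 0) := by
      have e : ((c • z, 0) : W × W) = c • (z, 0) := by simp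
      rw [e, map_smul, hs, hg, ← map_smul]
      simp
    rw [hg] at h5
    exact (Prod.mk.inj (hι h5)).1
  have ginj : Function.Injective g := by
    intro z w h
    have h5 : k (ι (z, 0)) = k (ι (w, 0)) := by rw [hg, hg, h]
    exact (Prod.mk.inj (hι (k.injective h5))).1
  have gX : ∀ z, g (X z) = X (g z) := by
    intro z
    obtain ⟨z', hz'⟩ := h3 z
    rw [key] at hz'
    have := Prod.mk.inj (hι hz')
    rw [this.1, this.2]
  have gY : ∀ z, g (Y z) = Y (g z) := by
    intro z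
    obtain ⟨z', hz'⟩ := h4 z
    rw [key] at hz'
    have := Prod.mk.inj (hι hz')
    rw [this.1, this.2]
  obtain ⟨c, hc⟩ := hXY g σ gadd gsmul ginj gX gY
  refine unit_of ι k hk0 c fun z => ?_
  obtain ⟨z, w⟩ := z
  rw [key, hc, hc, ← map_smul]
  simp

theorem rigid3 (ι : W × W × W →ₗ[K] V) (hι : Function.Injective ι) (X Y : W →ₗ[K] W) (hXY : Gen X Y)
    (k : Equiv.Perm V) (hk : k ∈ Semi K V) (h0 : ∀ z, ∃ z', k (ι (z, 0, 0)) = ι (z', 0, 0))
    (h1 : ∀ z, ∃ z', k (ι (0, z, 0)) = ι (0, z', 0)) (h2 : ∀ z, ∃ z', k (ι (0, 0, z)) = ι (0, 0, z'))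
    (h3 : ∀ z, ∃ z', k (ι (z, z, z)) = ι (z', z', z')) (h4 : ∀ z, ∃ z', k (ι (z, X z, Y z)) = ι (z', X z', Y z')) :
    ∃ c : Kˣ, ∀ z, k (ι z) = (c : K) • ι z := by
  obtain ⟨hadd, σ, hs⟩ := hk
  have hk0 : k 0 = 0 := by simpa using hs 0 0
  choose g hg using h0
  choose g' hg' using h1
  choose g'' hg'' using h2
  have hgg : ∀ z, g z = g' z ∧ g z = g'' z := by
    intro z
    obtain ⟨z', hz'⟩ := h3 z
    have e : (z, z, z) = ((z, 0, 0) : W × W × W) + (0, z, 0) + (0, 0, z) := by simp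
    rw [e, map_add ι, hadd, map_add ι, hadd, hg, hg', hg'', ← map_add, ← map_add] at hz'
    have := hι hz'
    simp only [Prod.mk_add_mk, add_zero, zero_add, Prod.mk.injEq] at this
    rw [this.1, this.2.1, this.2.2]
    exact ⟨rfl, rfl⟩
  have key : ∀ z w t, k (ι (z, w, t)) = ι (g z, g w, g t) := by
    intro z w t
    have e : (z, w, t) = ((z, 0, 0) : W × W × W) + (0, w, 0) + (0, 0, t) := by simp
    rw [e, map_add ι, hadd, map_add ι, hadd, hg, hg', hg'', ← map_add, ← map_add, ← (hgg w).1, ← (hgg t).2]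
    simp
  have gadd : ∀ z w, g (z + w) = g z + g w := by
    intro z w
    have h5 : k (ι (z + w, 0, 0)) = ι (g z + g w, 0, 0) := by
      have e : ((z + w, 0, 0) : W × W × W) = (z, 0, 0) + (w, 0, 0) := by simp
      rw [e, map_add, hadd, hg, hg, ← map_add]
      simp
    rw [hg] at h5
    exact (Prod.mk.inj (hι h5)).1
  have gsmul : ∀ (c : K) z, g (c • z) = σ c • g z := by
    intro c z
    have h5 : k (ι (c • z, 0, 0)) = ι (σ c • g z, 0, 0) := by
      have e : ((c • z, 0, 0) : W × W × W) = c • (z, 0, 0) := by simp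
      rw [e, map_smul, hs, hg, ← map_smul]
      simp
    rw [hg] at h5
    exact (Prod.mk.inj (hι h5)).1
  have ginj : Function.Injective g := by
    intro z w h
    have h5 : k (ι (z, 0, 0)) = k (ι (w, 0, 0)) := by rw [hg, hg, h]
    exact (Prod.mk.inj (hι (k.injective h5))).1
  have gXY : ∀ z, g (X z) = X (g z) ∧ g (Y z) = Y (g z) := by
    intro z
    obtain ⟨z', hz'⟩ := h4 z
    rw [key] at hz'
    have := Prod.mk.inj (hι hz')
    have h6 := Prod.mk.inj this.2
    rw [this.1, h6.1, h6.2]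
    exact ⟨rfl, rfl⟩
  obtain ⟨c, hc⟩ := hXY g σ gadd gsmul ginj (fun z => (gXY z).1) fun z => (gXY z).2
  refine unit_of ι k hk0 c fun z => ?_
  obtain ⟨z, w, t⟩ := z
  rw [key, hc, hc, hc, ← map_smul]
  simp

theorem toeplitz {n : ℕ} (C : Fin (n + 1) → Fin (n + 1) → K)
    (h1 : ∀ j l : Fin n, C j.castSucc l.castSucc = C j.succ l.succ) (h2 : ∀ j : Fin n, C j.castSucc (Fin.last n) = 0)
    (h3 : ∀ j : Fin n, C j.succ 0 = 0) : (∀ i l, i ≠ l → C i l = 0) ∧ ∀ i, C i i = C 0 0 := by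
  have hgt : ∀ l i : Fin (n + 1), l < i → C i l = 0 := by
    intro l
    induction l using Fin.induction with
    | zero =>
      intro i hi
      obtain ⟨j, rfl⟩ := Fin.exists_succ_eq.2 (Fin.pos_iff_ne_zero.1 hi)
      exact h3 j
    | succ l ih =>
      intro i hi
      obtain ⟨j, rfl⟩ := Fin.exists_succ_eq.2 (Fin.pos_iff_ne_zero.1 (lt_of_le_of_lt (Fin.zero_le _) hi))
      rw [← h1]
      exact ih _ (by simpa using hi)
  have hlt : ∀ l i : Fin (n + 1), i < l → C i l = 0 := by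
    intro l
    induction l using Fin.reverseInduction with
    | last =>
      intro i hi
      obtain ⟨j, rfl⟩ := Fin.exists_castSucc_eq.2 (ne_of_lt hi)
      exact h2 j
    | cast l ih =>
      intro i hi
      obtain ⟨j, rfl⟩ := Fin.exists_castSucc_eq.2 (ne_of_lt (lt_of_lt_of_le hi (Fin.le_last _)))
      rw [h1]
      exact ih _ (by simpa using hi)
  refine ⟨fun i l h => ?_, fun i => ?_⟩
  · rcases lt_or_gt_of_ne h with h | h
    · exact hlt _ _ h
    · exact hgt _ _ h
  · induction i using Fin.induction with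
    | zero => rfl
    | succ j ih => rw [← h1, ih]

theorem rigid21 {n : ℕ} (b : Basis (Fin (n + 2)) K W) {γ : K}
    (hγ : ∀ σ : K ≃+* K, σ γ = γ → σ = RingEquiv.refl K) (hγ0 : γ ≠ 0)
    (ι : W × W × K →ₗ[K] V) (hι : Function.Injective ι)
    (X : W →ₗ[K] W) (hX0 : X (b 0) = 0) (hX : ∀ j : Fin (n + 1), X (b j.succ) = b j.castSucc)
    (k : Equiv.Perm V) (hk : k ∈ Semi K V) (h0 : ∀ z, ∃ z', k (ι (z, 0, 0)) = ι (z', 0, 0))
    (h1 : ∀ z, ∃ z', k (ι (0, z, 0)) = ι (0, z', 0)) (h2 : ∀ z, ∃ z', k (ι (z, z, 0)) = ι (z', z', 0))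
    (h3 : ∀ z, ∃ z', k (ι (z, X z, b.coord 0 z)) = ι (z', X z', b.coord 0 z'))
    (h4 : ∀ z, ∃ z', k (ι (z, X z + γ • z, b.coord 0 z)) = ι (z', X z' + γ • z', b.coord 0 z')) :
    ∃ c : Kˣ, ∀ z, k (ι z) = (c : K) • ι z := by
  obtain ⟨hadd, σ, hs⟩ := hk
  have hk0 : k 0 = 0 := by simpa using hs 0 0
  choose g hg using h0
  choose g' hg' using h1
  have hgg : ∀ z, g z = g' z := by
    intro z
    obtain ⟨z', hz'⟩ := h2 z
    have e : (z, z, (0 : K)) = ((z, 0, 0) : W × W × K) + (0, z, 0) := by simp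
    rw [e, map_add, hadd, hg, hg', ← map_add] at hz'
    have := hι hz'
    simp only [Prod.mk_add_mk, add_zero, zero_add, Prod.mk.injEq] at this
    rw [this.1, this.2.1]
  have gadd : ∀ z w, g (z + w) = g z + g w := by
    intro z w
    have h5 : k (ι (z + w, 0, 0)) = ι (g z + g w, 0, 0) := by
      have e : ((z + w, 0, 0) : W × W × K) = (z, 0, 0) + (w, 0, 0) := by simp
      rw [e, map_add, hadd, hg, hg, ← map_add]
      simp
    rw [hg] at h5
    exact (Prod.mk.inj (hι h5)).1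
  have gsmul : ∀ (c : K) z, g (c • z) = σ c • g z := by
    intro c z
    have h5 : k (ι (c • z, 0, 0)) = ι (σ c • g z, 0, 0) := by
      have e : ((c • z, 0, 0) : W × W × K) = c • (z, 0, 0) := by simp
      rw [e, map_smul, hs, hg, ← map_smul]
      simp
    rw [hg] at h5
    exact (Prod.mk.inj (hι h5)).1
  have ginj : Function.Injective g := by
    intro z w h
    have h5 : k (ι (z, 0, 0)) = k (ι (w, 0, 0)) := by rw [hg, hg, h]
    exact (Prod.mk.inj (hι (k.injective h5))).1
  have g0 : g 0 = 0 := by simpa using gsmul 0 0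
  -- the image of `(0,0,1)`
  obtain ⟨⟨u, u', μ⟩, hu⟩ : ∃ y : W × W × K, k (ι (0, 0, 1)) = ι y := by
    obtain ⟨z', hz'⟩ := h3 (b 0)
    have e : (b 0, X (b 0), b.coord 0 (b 0)) = ((b 0, 0, 0) : W × W × K) + (0, 0, 1) := by simp [hX0]
    rw [e, map_add, hadd, hg, ← eq_sub_iff_add_eq', ← map_sub] at hz'
    exact ⟨_, hz'⟩
  have key : ∀ z w t, k (ι (z, w, t)) = ι (g z + σ t • u, g w + σ t • u', σ t * μ) := by
    intro z w t
    have e : (z, w, t) = ((z, 0, 0) : W × W × K) + (0, w, 0) + t • (0, 0, 1) := by simp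
    rw [e, map_add ι, hadd, map_add ι, hadd, hg, hg', map_smul, hs, hu, ← map_add, ← map_smul, ← map_add, ← hgg w]
    simp
  have e3 : ∀ z, g (X z) + σ (b.coord 0 z) • u' = X (g z + σ (b.coord 0 z) • u) ∧
      σ (b.coord 0 z) * μ = b.coord 0 (g z + σ (b.coord 0 z) • u) := by
    intro z
    obtain ⟨z', hz'⟩ := h3 z
    rw [key] at hz'
    have h5 := Prod.mk.inj (hι hz')
    have h6 := Prod.mk.inj h5.2
    rw [h5.1]
    exact h6
  have e4 : ∀ z, g (X z + γ • z) + σ (b.coord 0 z) • u' = X (g z + σ (b.coord 0 z) • u) +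
      γ • (g z + σ (b.coord 0 z) • u) := by
    intro z
    obtain ⟨z', hz'⟩ := h4 z
    rw [key] at hz'
    have h5 := Prod.mk.inj (hι hz')
    have h6 := Prod.mk.inj h5.2
    rw [h5.1]
    exact h6.1
  have e5 : ∀ z, σ γ • g z = γ • (g z + σ (b.coord 0 z) • u) := by
    intro z
    have h5 := e4 z
    rw [← (e3 z).1, gadd, gsmul, add_right_comm] at h5
    exact add_left_cancel h5
  have hσγ : σ γ = γ := by
    have h5 := e5 (b 1)
    have h6 : b.coord 0 (b 1) = 0 := by simp
    rw [h6, map_zero, zero_smul, add_zero] at h5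
    have h7 : (σ γ - γ) • g (b 1) = 0 := by rw [sub_smul, h5, sub_self]
    rcases smul_eq_zero.1 h7 with h8 | h8
    · exact sub_eq_zero.1 h8
    · exact absurd (ginj (h8.trans g0.symm)) (b.ne_zero 1)
  have hσ := hγ σ hσγ
  subst hσ
  have hu0 : u = 0 := by
    have h5 := e5 (b 0)
    simp only [RingEquiv.refl_apply] at h5
    have h6 : b.coord 0 (b 0) = 1 := by simp
    rw [h6, one_smul] at h5
    have h7 := smul_right_injective W hγ0 h5
    exact (left_eq_add.1 h7)
  subst hu0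
  simp only [RingEquiv.refl_apply, smul_zero, add_zero] at e3
  -- Toeplitz
  have hXc : ∀ v, ∀ l : Fin (n + 1), b.repr (X v) l.castSucc = b.repr v l.succ := by
    intro v l
    have h5 : X v = ∑ i : Fin (n + 1), b.repr v i.succ • b i.castSucc := by
      conv_lhs => rw [← b.sum_repr v]
      rw [map_sum, Fin.sum_univ_succ]
      simp [hX0, hX]
    rw [h5]
    simp [Finsupp.single_apply, Fin.castSucc_inj]
  have hXl : ∀ v, b.repr (X v) (Fin.last (n + 1)) = 0 := by
    intro v
    have h5 : X v = ∑ i : Fin (n + 1), b.repr v i.succ • b i.castSucc := by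
      conv_lhs => rw [← b.sum_repr v]
      rw [map_sum, Fin.sum_univ_succ]
      simp [hX0, hX]
    rw [h5]
    simp [Fin.castSucc_ne_last]
  have hc0 : ∀ j : Fin (n + 1), b.coord 0 (b j.succ) = 0 := by
    intro j
    simp
  have hgX : ∀ j : Fin (n + 1), g (b j.castSucc) = X (g (b j.succ)) := by
    intro j
    have h5 := (e3 (b j.succ)).1
    rw [hc0, zero_smul, add_zero, hX] at h5
    exact h5
  obtain ⟨hC1, hC2⟩ := toeplitz (fun i l => b.repr (g (b i)) l) (fun j l => by rw [hgX, hXc])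
    (fun j => by rw [hgX, hXl]) (fun j => by
      have h5 := (e3 (b j.succ)).2
      rw [hc0, zero_mul] at h5
      simpa using h5.symm)
  have hall : ∀ i, g (b i) = b.repr (g (b 0)) 0 • b i := by
    intro i
    apply b.repr.injective
    ext l
    by_cases hl : i = l
    · subst hl
      simpa using hC2 i
    · rw [hC1 i l hl]
      simp [hl]
  have hgc := semilin_eq_smul b gadd (fun c z => gsmul c z) hall
  set c := b.repr (g (b 0)) 0 with hc
  have hu' : u' = 0 := by
    have h5 := (e3 (b 0)).1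
    rw [hX0, g0, hgc, map_smul, hX0] at h5
    simpa using h5
  have hμ : μ = c := by
    have h5 := (e3 (b 0)).2
    rw [hgc] at h5
    simpa using h5
  refine unit_of ι k hk0 c fun z => ?_
  obtain ⟨z, w, t⟩ := z
  rw [key, hgc, hgc, hu', hμ, ← map_smul]
  simp [mul_comm]

/-- a parametrization of `V₀` in which `A` is the first block -/
theorem exists_split [Module.Finite K V] (A V₀ : Submodule K V) (hA : A ≤ V₀) (W₁ W₂ : Type*) [AddCommGroup W₁]
    [Module K W₁] [Module.Finite K W₁] [AddCommGroup W₂] [Module K W₂] [Module.Finite K W₂]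
    (h1 : finrank K W₁ = finrank K A) (h2 : finrank K W₁ + finrank K W₂ = finrank K V₀) :
    ∃ ι : W₁ × W₂ →ₗ[K] V, Function.Injective ι ∧ LinearMap.range ι = V₀ ∧ ∀ v, v ∈ A ↔ ∃ z, ι (z, 0) = v := by
  obtain ⟨C, hC⟩ := Submodule.exists_isCompl (A.comap V₀.subtype)
  have hA' : finrank K (A.comap V₀.subtype) = finrank K A :=
    LinearEquiv.finrank_eq (Submodule.comapSubtypeEquivOfLe hA)
  have hC' := Submodule.finrank_add_eq_of_isCompl hC
  let e₁ : W₁ ≃ₗ[K] (A.comap V₀.subtype) := LinearEquiv.ofFinrankEq _ _ (h1.trans hA'.symm)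
  let e₂ : W₂ ≃ₗ[K] C := LinearEquiv.ofFinrankEq _ _ (by omega)
  let e : (W₁ × W₂) ≃ₗ[K] V₀ := (e₁.prodCongr e₂).trans (Submodule.prodEquivOfIsCompl _ _ hC)
  refine ⟨V₀.subtype ∘ₗ (e : (W₁ × W₂) →ₗ[K] V₀), ?_, ?_, ?_⟩
  · exact V₀.injective_subtype.comp e.injective
  · rw [LinearMap.range_comp, LinearEquiv.range, Submodule.map_top, Submodule.range_subtype]
  · intro v
    have he : ∀ z, ((V₀.subtype ∘ₗ (e : (W₁ × W₂) →ₗ[K] V₀)) (z, 0) : V) = ((e₁ z : V₀) : V) := by
      intro z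
      simp [e]
    constructor
    · intro hv
      refine ⟨e₁.symm ⟨⟨v, hA hv⟩, hv⟩, ?_⟩
      rw [he]
      simp
    · rintro ⟨z, rfl⟩
      rw [he]
      exact (e₁ z).2

/-- semilinear bijections of `V` fixing all the `A i` are homotheties on `V₀` -/
def Rig (A : Fin 5 → Submodule K V) (V₀ : Submodule K V) : Prop :=
  ∀ k ∈ Semi K V, (∀ i, ∀ v ∈ A i, k v ∈ A i) → ∃ c : Kˣ, ∀ v ∈ V₀, k v = (c : K) • v

theorem rig_of {U : Type*} [AddCommGroup U] [Module K U] (V₀ : Submodule K V) (ι : U →ₗ[K] V)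
    (hι : Function.Injective ι) (hr : LinearMap.range ι = V₀) (f : Fin 5 → (W →ₗ[K] U))
    (hf : ∀ i, Function.Injective (f i)) (h01 : ∀ z w, f 0 z = f 1 w → z = 0)
    (hrig : ∀ k : Equiv.Perm V, k ∈ Semi K V → (∀ i z, ∃ z', k (ι (f i z)) = ι (f i z')) →
      ∃ c : Kˣ, ∀ z, k (ι z) = (c : K) • ι z) :
    ∃ B : Fin 5 → Submodule K V, B 0 = LinearMap.range (ι ∘ₗ f 0) ∧ Disjoint (B 0) (B 1) ∧
      (∀ i, B i ≤ V₀ ∧ finrank K (B i) = finrank K W) ∧ Rig B V₀ := by
  refine ⟨fun i => LinearMap.range (ι ∘ₗ f i), rfl, ?_, fun i => ⟨?_, ?_⟩, ?_⟩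
  · rw [Submodule.disjoint_def]
    rintro _ ⟨z, rfl⟩ ⟨w, hw⟩
    have h1 := h01 z w (hι hw.symm)
    rw [h1, map_zero]
  · rw [← hr]
    rintro _ ⟨z, rfl⟩
    exact ⟨_, rfl⟩
  · exact LinearMap.finrank_range_of_inj (hι.comp (hf i))
  · intro k hk hi
    obtain ⟨c, hc⟩ := hrig k hk fun i z => by
      obtain ⟨z', hz'⟩ := hi i (ι (f i z)) ⟨z, rfl⟩
      exact ⟨z', hz'.symm⟩
    refine ⟨c, ?_⟩
    rw [← hr]
    rintro _ ⟨z, rfl⟩
    exact hc z

/-- **RIGID5** in the interval `[A, V₀]` -/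
theorem rigid5 [Finite K] [Module.Finite K V] (A V₀ : Submodule K V) (hA : A ≤ V₀) (a : ℕ) (ha : finrank K A = a)
    (h : finrank K V₀ = 2 * a ∨ (2 ≤ a ∧ finrank K V₀ = 2 * a + 1) ∨ finrank K V₀ = 3 * a) :
    ∃ B : Fin 5 → Submodule K V, B 0 = A ∧ Disjoint (B 0) (B 1) ∧ (∀ i, B i ≤ V₀ ∧ finrank K (B i) = a) ∧
      Rig B V₀ := by
  obtain ⟨γ, hγ0, hγ⟩ := exists_gamma K
  rcases Nat.eq_zero_or_pos a with ha0 | ha0
  · -- `a = 0`
    subst ha0
    have hV : V₀ = ⊥ := by
      have : finrank K V₀ = 0 := by omega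
      exact Submodule.finrank_eq_zero.1 this
    have hA0 : A = ⊥ := by rw [hV] at hA; exact le_bot_iff.1 hA
    subst hV
    subst hA0
    refine ⟨fun _ => ⊥, rfl, disjoint_bot_left, fun i => ⟨le_rfl, finrank_bot K V⟩, fun k hk _ => ⟨1, ?_⟩⟩
    intro v hv
    rw [Submodule.mem_bot] at hv
    obtain ⟨hadd, σ, hs⟩ := hk
    have hk0 : k 0 = 0 := by simpa using hs 0 0
    rw [hv, hk0, smul_zero]
  obtain ⟨n, rfl⟩ : ∃ n, a = n + 1 := ⟨a - 1, by omega⟩
  let b := Pi.basisFun K (Fin (n + 1))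
  let X : (Fin (n + 1) → K) →ₗ[K] (Fin (n + 1) → K) := b.constr K (Fin.cases 0 fun j => b j.castSucc)
  let Y : (Fin (n + 1) → K) →ₗ[K] (Fin (n + 1) → K) := b.constr K (Fin.cases (γ • b (Fin.last n)) fun _ => 0)
  have hX0 : X (b 0) = 0 := by simp [X]
  have hX : ∀ j : Fin n, X (b j.succ) = b j.castSucc := by intro j; simp [X]
  have hY0 : Y (b 0) = γ • b (Fin.last n) := by simp [Y]
  have hY : ∀ j : Fin n, Y (b j.succ) = 0 := by intro j; simp [Y]
  have hgen : Gen X Y := gen_of b hγ hγ0 X Y hX hY0 hY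
  have hW : finrank K (Fin (n + 1) → K) = n + 1 := by simp
  rcases h with h | ⟨h2, h⟩ | h
  · obtain ⟨ι, hι, hr, hιA⟩ := exists_split A V₀ hA (Fin (n + 1) → K) (Fin (n + 1) → K) (by omega) (by omega)
    obtain ⟨B, hB0, hB1, hB, hrig⟩ := rig_of (W := Fin (n + 1) → K) V₀ ι hι hr
      ![LinearMap.inl K _ _, LinearMap.inr K _ _, LinearMap.prod LinearMap.id LinearMap.id,
        LinearMap.prod LinearMap.id X, LinearMap.prod LinearMap.id Y]
      (by
        intro i
        fin_cases i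
        · exact LinearMap.inl_injective
        · exact LinearMap.inr_injective
        · exact fun z w h => (Prod.mk.inj h).1
        · exact fun z w h => (Prod.mk.inj h).1
        · exact fun z w h => (Prod.mk.inj h).1)
      (fun z w h => (Prod.mk.inj h).1)
      (fun k hk hi => rigid2 ι hι X Y hgen k hk (fun z => by simpa using hi 0 z) (fun z => by simpa using hi 1 z)
        (fun z => by simpa using hi 2 z) (fun z => by simpa using hi 3 z) (fun z => by simpa using hi 4 z))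
    refine ⟨B, ?_, hB1, fun i => ⟨(hB i).1, (hB i).2.trans hW⟩, hrig⟩
    rw [hB0]
    ext v
    rw [hιA]
    rfl
  · obtain ⟨m, rfl⟩ : ∃ m, n = m + 1 := ⟨n - 1, by omega⟩
    obtain ⟨ι, hι, hr, hιA⟩ := exists_split A V₀ hA (Fin (m + 1 + 1) → K) ((Fin (m + 1 + 1) → K) × K) (by omega)
      (by rw [Module.finrank_prod, Module.finrank_self]; omega)
    obtain ⟨B, hB0, hB1, hB, hrig⟩ := rig_of (W := Fin (m + 1 + 1) → K) V₀ ι hι hr
      ![LinearMap.inl K _ _, LinearMap.inr K _ _ ∘ₗ LinearMap.inl K _ _,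
        LinearMap.prod LinearMap.id (LinearMap.inl K _ _),
        LinearMap.prod LinearMap.id (LinearMap.prod X (b.coord 0)),
        LinearMap.prod LinearMap.id (LinearMap.prod (X + γ • LinearMap.id) (b.coord 0))]
      (by
        intro i
        fin_cases i
        · exact LinearMap.inl_injective
        · exact LinearMap.inr_injective.comp LinearMap.inl_injective
        · exact fun z w h => (Prod.mk.inj h).1
        · exact fun z w h => (Prod.mk.inj h).1
        · exact fun z w h => (Prod.mk.inj h).1)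
      (fun z w h => (Prod.mk.inj h).1)
      (fun k hk hi => rigid21 b hγ hγ0 ι hι X hX0 hX k hk (fun z => hi 0 z)
        (fun z => by simpa using hi 1 z)
        (fun z => by simpa using hi 2 z) (fun z => by simpa using hi 3 z) (fun z => by simpa using hi 4 z))
    refine ⟨B, ?_, hB1, fun i => ⟨(hB i).1, (hB i).2.trans hW⟩, hrig⟩
    rw [hB0]
    ext v
    rw [hιA]
    rfl
  · obtain ⟨ι, hι, hr, hιA⟩ := exists_split A V₀ hA (Fin (n + 1) → K) ((Fin (n + 1) → K) × (Fin (n + 1) → K))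
      (by omega) (by rw [Module.finrank_prod]; omega)
    obtain ⟨B, hB0, hB1, hB, hrig⟩ := rig_of (W := Fin (n + 1) → K) V₀ ι hι hr
      ![LinearMap.inl K _ _, LinearMap.inr K _ _ ∘ₗ LinearMap.inl K _ _, LinearMap.inr K _ _ ∘ₗ LinearMap.inr K _ _,
        LinearMap.prod LinearMap.id (LinearMap.prod LinearMap.id LinearMap.id),
        LinearMap.prod LinearMap.id (LinearMap.prod X Y)]
      (by
        intro i
        fin_cases i
        · exact LinearMap.inl_injective
        · exact LinearMap.inr_injective.comp LinearMap.inl_injective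
        · exact LinearMap.inr_injective.comp LinearMap.inr_injective
        · exact fun z w h => (Prod.mk.inj h).1
        · exact fun z w h => (Prod.mk.inj h).1)
      (fun z w h => (Prod.mk.inj h).1)
      (fun k hk hi => rigid3 ι hι X Y hgen k hk (fun z => hi 0 z) (fun z => by simpa using hi 1 z)
        (fun z => by simpa using hi 2 z) (fun z => by simpa using hi 3 z) (fun z => by simpa using hi 4 z))
    refine ⟨B, ?_, hB1, fun i => ⟨(hB i).1, (hB i).2.trans hW⟩, hrig⟩
    rw [hB0]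
    ext v
    rw [hιA]
    rfl

end five

section move

variable {K : Type u} [Field K] {V : Type v} [AddCommGroup V] [Module K V]

/-- moving a basis to another one by `SL(V)`, up to a scalar at one vector -/
theorem move_basis {ι : Type*} [Fintype ι] [DecidableEq ι] (b b' : Basis ι K V) (j : ι) :
    ∃ x : V ≃ₗ[K] V, LinearMap.det (x : V →ₗ[K] V) = 1 ∧ (∀ i, i ≠ j → x (b i) = b' i) ∧
      ∃ c : Kˣ, x (b j) = (c : K) • b' j := by
  let y : V ≃ₗ[K] V := b.equiv b' (Equiv.refl ι)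
  have hy : LinearMap.det (y : V →ₗ[K] V) ≠ 0 := (LinearEquiv.isUnit_det' y).ne_zero
  let w : ι → Kˣ := Function.update 1 j (Units.mk0 _ (inv_ne_zero hy))
  let z : V ≃ₗ[K] V := b'.equiv (b'.unitsSMul w) (Equiv.refl ι)
  have hz : LinearMap.det (z : V →ₗ[K] V) = (LinearMap.det (y : V →ₗ[K] V))⁻¹ := by
    have h1 := b'.det_comp (z : V →ₗ[K] V) b'
    have h2 : ((z : V →ₗ[K] V) : V → V) ∘ b' = b'.unitsSMul w := by
      funext i
      simp [z]
    rw [h2, Module.Basis.det_unitsSMul_self, Module.Basis.det_self, mul_one] at h1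
    rw [← h1]
    simp only [w]
    rw [Finset.prod_eq_single j]
    · simp
    · intro i _ hi
      simp [Function.update_of_ne hi]
    · intro h
      exact absurd (Finset.mem_univ j) h
  have hzb : ∀ i, z (b' i) = ((w i : Kˣ) : K) • b' i := by
    intro i
    simp [z, Module.Basis.unitsSMul_apply, Units.smul_def]
  have hyb : ∀ i, y (b i) = b' i := by
    intro i
    simp [y]
  refine ⟨y.trans z, ?_, fun i hi => ?_, w j, ?_⟩
  · rw [LinearEquiv.coe_trans, LinearMap.det_comp, hz, inv_mul_cancel₀ hy]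
  · rw [LinearEquiv.trans_apply, hyb, hzb]
    simp [w, Function.update_of_ne hi]
  · rw [LinearEquiv.trans_apply, hyb, hzb]

/-- the same, for all the vectors at once -/
theorem move_basis' {ι : Type*} [Fintype ι] (b b' : Basis ι K V) :
    ∃ x : V ≃ₗ[K] V, LinearMap.det (x : V →ₗ[K] V) = 1 ∧ ∀ i, ∃ c : Kˣ, x (b i) = (c : K) • b' i := by
  classical
  rcases isEmpty_or_nonempty ι with h | ⟨⟨j⟩⟩
  · refine ⟨LinearEquiv.refl K V, ?_, fun i => h.elim i⟩
    simp
  · obtain ⟨x, hx, h1, h2⟩ := move_basis b b' j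
    refine ⟨x, hx, fun i => ?_⟩
    by_cases hi : i = j
    · subst hi; exact h2
    · exact ⟨1, by simp [h1 i hi]⟩

theorem map_span_of {ι : Type*} (x : V ≃ₗ[K] V) (v v' : ι → V) (h : ∀ i, ∃ c : Kˣ, x (v i) = (c : K) • v' i) :
    (Submodule.span K (Set.range v)).map (x : V →ₗ[K] V) = Submodule.span K (Set.range v') := by
  apply le_antisymm
  · rw [Submodule.map_span_le]
    rintro _ ⟨i, rfl⟩
    obtain ⟨c, hc⟩ := h i
    change x (v i) ∈ _
    rw [hc]
    exact Submodule.smul_mem _ _ (Submodule.subset_span ⟨i, rfl⟩)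
  · rw [Submodule.span_le]
    rintro _ ⟨i, rfl⟩
    obtain ⟨c, hc⟩ := h i
    refine ⟨(c⁻¹ : Kˣ) • v i, Submodule.smul_mem _ _ (Submodule.subset_span ⟨i, rfl⟩), ?_⟩
    change x ((c⁻¹ : Kˣ) • v i) = v' i
    rw [Units.smul_def, map_smul, hc, smul_smul, ← Units.val_mul, inv_mul_cancel, Units.val_one, one_smul]

/-- a basis adapted to `A ≤ B` -/
theorem exists_adapted [Module.Finite K V] (A B : Submodule K V) (hAB : A ≤ B) (a c d : ℕ) (hA : finrank K A = a)
    (hB : finrank K B = a + c) (hV : finrank K V = a + c + d) :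
    ∃ b : Basis ((Fin a ⊕ Fin c) ⊕ Fin d) K V, Submodule.span K (Set.range fun i => b (Sum.inl (Sum.inl i))) = A ∧
      Submodule.span K (Set.range fun i => b (Sum.inl i)) = B := by
  obtain ⟨ι, hι, hr, hιA⟩ := exists_split A B hAB (Fin a → K) (Fin c → K) (by simp [hA]) (by simp [hB])
  let e : Basis (Fin a ⊕ Fin c) K ((Fin a → K) × (Fin c → K)) := (Pi.basisFun K (Fin a)).prod (Pi.basisFun K (Fin c))
  let u : Fin a ⊕ Fin c → V := ι ∘ e
  have hu : LinearIndependent K u := e.linearIndependent.map' ι (LinearMap.ker_eq_bot.2 hι)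
  have huB : Submodule.span K (Set.range u) = B := by
    rw [Set.range_comp, Submodule.span_image, e.span_eq, Submodule.map_top, hr]
  have huA : Submodule.span K (Set.range fun i => u (Sum.inl i)) = A := by
    have h1 : (fun i => u (Sum.inl i)) = (ι ∘ₗ LinearMap.inl K (Fin a → K) (Fin c → K)) ∘ (Pi.basisFun K (Fin a)) := by
      funext i
      simp [u, e]
    rw [h1, Set.range_comp, Submodule.span_image, (Pi.basisFun K (Fin a)).span_eq, Submodule.map_top]
    ext v
    rw [hιA]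
    rfl
  obtain ⟨D, hD⟩ := Submodule.exists_isCompl B
  have hD' := Submodule.finrank_add_eq_of_isCompl hD
  let bD : Basis (Fin d) K D := finBasisOfFinrankEq K D (by omega)
  have hvD : LinearIndependent K (fun i => (bD i : V)) :=
    bD.linearIndependent.map' D.subtype (Submodule.ker_subtype D)
  have hsD : Submodule.span K (Set.range fun i => (bD i : V)) = D := by
    have h1 : (fun i => (bD i : V)) = D.subtype ∘ bD := rfl
    rw [h1, Set.range_comp, Submodule.span_image, bD.span_eq, Submodule.map_top, Submodule.range_subtype]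
  have hli : LinearIndependent K (Sum.elim u fun i => (bD i : V)) :=
    hu.sum_type hvD (by rw [huB, hsD]; exact hD.disjoint)
  have hsp : ⊤ ≤ Submodule.span K (Set.range (Sum.elim u fun i => (bD i : V))) := by
    rw [Set.Sum.elim_range, Submodule.span_union, huB, hsD, hD.sup_eq_top]
  refine ⟨Basis.mk hli hsp, ?_, ?_⟩
  · simpa using huA
  · simpa using huB

/-- moving flags by `SL(V)` -/
theorem move_flag [Module.Finite K V] (A B A' B' : Submodule K V) (hAB : A ≤ B) (hAB' : A' ≤ B')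
    (hA : finrank K A = finrank K A') (hB : finrank K B = finrank K B') :
    ∃ x : V ≃ₗ[K] V, LinearMap.det (x : V →ₗ[K] V) = 1 ∧ A.map (x : V →ₗ[K] V) = A' ∧
      B.map (x : V →ₗ[K] V) = B' := by
  have h1 : finrank K A ≤ finrank K B := Submodule.finrank_mono hAB
  have h2 : finrank K B ≤ finrank K V := Submodule.finrank_le B
  obtain ⟨b, hb1, hb2⟩ := exists_adapted A B hAB (finrank K A) (finrank K B - finrank K A)
    (finrank K V - finrank K B) rfl (by omega) (by omega)
  obtain ⟨b', hb1', hb2'⟩ := exists_adapted A' B' hAB' (finrank K A) (finrank K B - finrank K A)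
    (finrank K V - finrank K B) hA.symm (by omega) (by omega)
  obtain ⟨x, hx, h⟩ := move_basis' b b'
  refine ⟨x, hx, ?_, ?_⟩
  · rw [← hb1, ← hb1']
    exact map_span_of x _ _ fun i => h _
  · rw [← hb2, ← hb2']
    exact map_span_of x _ _ fun i => h _

/-- the form of `FiveV` used with invariant subspaces: if `g ∈ S` and all `xᵢ⁻¹ g xᵢ ∈ S` then `g` is a homothety
(`g` fixes `xᵢ A` for every `S`-invariant `A`). -/
theorem fiveV_of {S : Subgroup (Equiv.Perm V)} (x : Fin 4 → (V ≃ₗ[K] V))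
    (hx : ∀ i, LinearMap.det ((x i : V ≃ₗ[K] V) : V →ₗ[K] V) = 1)
    (h : ∀ g ∈ S, (∀ i, ((x i).toEquiv : Equiv.Perm V)⁻¹ * g * ((x i).toEquiv : Equiv.Perm V) ∈ S) →
      ∃ a : Kˣ, g = hm K V a) : FiveV K V S := by
  refine ⟨fun i => (x i).symm, fun i => ?_, fun g hg hi => h g hg fun i => hi i⟩
  rw [LinearEquiv.det_coe_symm, hx, inv_one]

/-- an invariant subspace of dimension `n/2`, `(n-1)/2 ≥ 2` or `n/3` -/
theorem fiveV_rigid [Finite K] [Module.Finite K V] (S : Subgroup (Equiv.Perm V)) (hS : S ≤ Semi K V)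
    (A : Submodule K V) (hA : ∀ g ∈ S, ∀ w ∈ A, g w ∈ A) (a : ℕ) (ha : finrank K A = a)
    (h : finrank K V = 2 * a ∨ (2 ≤ a ∧ finrank K V = 2 * a + 1) ∨ finrank K V = 3 * a) : FiveV K V S := by
  obtain ⟨B, hB0, -, hB, hrig⟩ := rigid5 A ⊤ le_top a ha (by rwa [finrank_top])
  have hx : ∀ i, ∃ x : V ≃ₗ[K] V, LinearMap.det (x : V →ₗ[K] V) = 1 ∧ A.map (x : V →ₗ[K] V) = B i := by
    intro i
    obtain ⟨x, h1, h2, -⟩ := move_flag A A (B i) (B i) le_rfl le_rfl (ha.trans (hB i).2.symm)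
      (ha.trans (hB i).2.symm)
    exact ⟨x, h1, h2⟩
  choose x hx1 hx2 using hx
  refine fiveV_of (fun i => x i.succ) (fun i => hx1 _) fun g hg hi => ?_
  obtain ⟨c, hc⟩ := hrig g (hS hg) fun i v hv => by
    rcases Fin.eq_zero_or_eq_succ i with rfl | ⟨j, rfl⟩
    · rw [hB0] at hv ⊢
      exact hA g hg v hv
    · rw [← hx2] at hv ⊢
      obtain ⟨w, hw, rfl⟩ := hv
      refine ⟨(x j.succ).symm (g (x j.succ w)), hA _ (hi j) w hw, ?_⟩
      simp
  exact ⟨c, Equiv.ext fun v => hc v Submodule.mem_top⟩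

end move

section dual

variable {K : Type u} [Field K] {V : Type v} [AddCommGroup V] [Module K V]

/-- `g'` is the contragredient of the semilinear bijection `g` -/
def Ctr (g : Equiv.Perm V) (g' : Equiv.Perm (Dual K V)) : Prop :=
  (∀ v w, g (v + w) = g v + g w) ∧ ∃ σ : K ≃+* K, (∀ (a : K) v, g (a • v) = σ a • g v) ∧ ∀ φ v, g' φ (g v) = σ (φ v)

theorem Ctr.left {g : Equiv.Perm V} {g' : Equiv.Perm (Dual K V)} (h : Ctr g g') : g ∈ Semi K V :=
  ⟨h.1, h.2.imp fun _ h => h.1⟩

theorem Ctr.right {g : Equiv.Perm V} {g' : Equiv.Perm (Dual K V)} (h : Ctr g g') : g' ∈ Semi K (Dual K V) := by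
  obtain ⟨-, σ, -, h⟩ := h
  refine ⟨fun φ ψ => ?_, σ, fun a φ => ?_⟩
  · apply LinearMap.ext
    intro w
    obtain ⟨v, rfl⟩ := g.surjective w
    rw [h, LinearMap.add_apply, LinearMap.add_apply, h, h, map_add]
  · apply LinearMap.ext
    intro w
    obtain ⟨v, rfl⟩ := g.surjective w
    rw [h, LinearMap.smul_apply, LinearMap.smul_apply, h, smul_eq_mul, map_mul, smul_eq_mul]

theorem Ctr.one : Ctr (1 : Equiv.Perm V) (1 : Equiv.Perm (Dual K V)) :=
  ⟨fun _ _ => rfl, RingEquiv.refl K, fun _ _ => rfl, fun _ _ => rfl⟩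

theorem Ctr.mul {g h : Equiv.Perm V} {g' h' : Equiv.Perm (Dual K V)} (hg : Ctr g g') (hh : Ctr h h') :
    Ctr (g * h) (g' * h') := by
  obtain ⟨hg0, σ, hg1, hg2⟩ := hg
  obtain ⟨hh0, τ, hh1, hh2⟩ := hh
  refine ⟨fun v w => ?_, τ.trans σ, fun a v => ?_, fun φ v => ?_⟩
  · change g (h (v + w)) = g (h v) + g (h w)
    rw [hh0, hg0]
  · change g (h (a • v)) = σ (τ a) • g (h v)
    rw [hh1, hg1]
  · change g' (h' φ) (g (h v)) = σ (τ (φ v))
    rw [hg2, hh2]

theorem Ctr.inv {g : Equiv.Perm V} {g' : Equiv.Perm (Dual K V)} (hg : Ctr g g') : Ctr g⁻¹ g'⁻¹ := by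
  have hS := inv_mem hg.left
  obtain ⟨hg0, σ, hg1, hg2⟩ := hg
  refine ⟨hS.1, σ.symm, fun a v => ?_, fun φ v => ?_⟩
  · apply g.injective
    rw [hg1]
    simp
  · obtain ⟨ψ, rfl⟩ := g'.surjective φ
    obtain ⟨w, rfl⟩ := g.surjective v
    rw [hg2]
    simp

theorem exists_ctr {g : Equiv.Perm V} (hg : g ∈ Semi K V) : ∃ g' : Equiv.Perm (Dual K V), Ctr g g' := by
  have hgi := inv_mem hg
  obtain ⟨h0, σ, h1⟩ := hg
  have h2 : ∀ (a : K) v, g⁻¹ (a • v) = σ.symm a • g⁻¹ v := by
    intro a v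
    apply g.injective
    rw [h1]
    simp
  refine ⟨⟨fun φ => ⟨⟨fun v => σ (φ (g⁻¹ v)), fun v w => ?_⟩, fun a v => ?_⟩,
    fun φ => ⟨⟨fun v => σ.symm (φ (g v)), fun v w => ?_⟩, fun a v => ?_⟩, fun φ => ?_, fun φ => ?_⟩,
    h0, σ, h1, fun φ v => ?_⟩
  · rw [hgi.1, map_add, map_add]
  · simp [h2]
  · rw [h0, map_add, map_add]
  · simp [h1]
  · apply LinearMap.ext
    intro v
    simp
  · apply LinearMap.ext
    intro v
    simp
  · simp

theorem Ctr.unique {g : Equiv.Perm V} {g' g'' : Equiv.Perm (Dual K V)} (h1 : Ctr g g') (h2 : Ctr g g'') :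
    g' = g'' := by
  obtain ⟨-, σ, h1s, h1⟩ := h1
  obtain ⟨-, τ, h2s, h2⟩ := h2
  apply Equiv.ext
  intro φ
  apply LinearMap.ext
  intro w
  obtain ⟨v, rfl⟩ := g.surjective w
  rw [h1, h2]
  have h3 := (h1s (φ v) v).symm.trans (h2s (φ v) v)
  have h4 : (σ (φ v) - τ (φ v)) • g v = 0 := by rw [sub_smul, h3, sub_self]
  rcases smul_eq_zero.1 h4 with h5 | h5
  · exact sub_eq_zero.1 h5
  · have h6 : v = 0 := by
      apply g.injective
      rw [h5]
      have := h1s 0 0
      simp only [smul_zero, map_zero, zero_smul] at this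
      exact this.symm
    rw [h6]
    simp

/-- the contragredient representation -/
noncomputable def ctrHom (K : Type u) [Field K] (V : Type v) [AddCommGroup V] [Module K V] :
    Semi K V →* Equiv.Perm (Dual K V) where
  toFun g := (exists_ctr g.2).choose
  map_one' := (exists_ctr (1 : Semi K V).2).choose_spec.unique Ctr.one
  map_mul' g h := (exists_ctr (g * h).2).choose_spec.unique
    ((exists_ctr g.2).choose_spec.mul (exists_ctr h.2).choose_spec)

theorem ctrHom_spec (g : Semi K V) : Ctr (g : Equiv.Perm V) (ctrHom K V g) := (exists_ctr g.2).choose_spec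

theorem mem_ctr (S : Subgroup (Equiv.Perm V)) (hS : S ≤ Semi K V) (g' : Equiv.Perm (Dual K V)) :
    g' ∈ (S.subgroupOf (Semi K V)).map (ctrHom K V) ↔ ∃ g ∈ S, Ctr g g' := by
  constructor
  · rintro ⟨g, hg, rfl⟩
    exact ⟨g, hg, ctrHom_spec g⟩
  · rintro ⟨g, hg, hgg⟩
    exact ⟨⟨g, hS hg⟩, hg, (ctrHom_spec ⟨g, hS hg⟩).unique hgg⟩

/-- **Duality** -/
theorem dual_five [Module.Finite K V] (S : Subgroup (Equiv.Perm V)) (hS : S ≤ Semi K V) (hh : ∀ a, hm K V a ∈ S)
    (hsol : Group.IsSolvable S) :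
    ∃ S' : Subgroup (Equiv.Perm (Dual K V)), S' ≤ Semi K (Dual K V) ∧ (∀ a, hm K (Dual K V) a ∈ S') ∧
      Group.IsSolvable S' ∧
      (∀ W : Submodule K V, (∀ g ∈ S, ∀ w ∈ W, g w ∈ W) ↔
        ∀ g ∈ S', ∀ φ ∈ W.dualAnnihilator, g φ ∈ W.dualAnnihilator) ∧
      (FiveV K (Dual K V) S' → FiveV K V S) := by
  refine ⟨(S.subgroupOf (Semi K V)).map (ctrHom K V), ?_, ?_, ?_, ?_, ?_⟩
  · intro g' hg'
    obtain ⟨g, -, hg⟩ := (mem_ctr S hS g').1 hg'
    exact hg.right
  · intro a
    rw [mem_ctr S hS]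
    refine ⟨hm K V a⁻¹, hh _, fun v w => ?_, RingEquiv.refl K, fun c v => ?_, fun φ v => ?_⟩
    · simp only [hm_apply, smul_add]
    · simp only [hm_apply, RingEquiv.refl_apply, smul_comm c]
    · simp only [hm_apply, LinearMap.smul_apply, map_smul, smul_smul, RingEquiv.refl_apply, Units.inv_mul, one_smul]
  · have h1 : Group.IsSolvable (S.subgroupOf (Semi K V)) := by
      refine Group.isSolvable_of_isSolvable_injective (G' := S)
        (f := ((Semi K V).subtype.comp (S.subgroupOf (Semi K V)).subtype).codRestrict S fun g => g.2) ?_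
      intro g h hgh
      have h2 : ((g : Semi K V) : Equiv.Perm V) = ((h : Semi K V) : Equiv.Perm V) :=
        congrArg (Subtype.val : S → Equiv.Perm V) hgh
      exact Subtype.ext (Subtype.ext h2)
    exact Group.isSolvable_of_surjective ((ctrHom K V).subgroupMap_surjective (S.subgroupOf (Semi K V)))
  · intro W
    constructor
    · intro hW g' hg' φ hφ
      obtain ⟨g, hg, -, σ, -, hgg⟩ := (mem_ctr S hS g').1 hg'
      rw [Submodule.mem_dualAnnihilator] at hφ ⊢
      intro w hw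
      obtain ⟨v, rfl⟩ := g.surjective w
      have hv : v ∈ W := by
        have := hW _ (inv_mem hg) _ hw
        simpa using this
      rw [hgg, hφ v hv, map_zero]
    · intro hW g hg w hw
      rw [← Subspace.forall_mem_dualAnnihilator_apply_eq_zero_iff]
      intro φ hφ
      obtain ⟨-, σ, -, hgg⟩ := ctrHom_spec (⟨g, hS hg⟩ : Semi K V)
      have hg' : ctrHom K V ⟨g, hS hg⟩ ∈ (S.subgroupOf (Semi K V)).map (ctrHom K V) := ⟨_, hg, rfl⟩
      have h1 := hW _ (inv_mem hg') φ hφ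
      have h2 := hgg ((ctrHom K V ⟨g, hS hg⟩)⁻¹ φ) w
      have h3 : (ctrHom K V ⟨g, hS hg⟩) ((ctrHom K V ⟨g, hS hg⟩)⁻¹ φ) = φ :=
        (ctrHom K V ⟨g, hS hg⟩).apply_symm_apply φ
      rw [h3] at h2
      rw [(Submodule.mem_dualAnnihilator _).1 h1 w hw, map_zero] at h2
      exact h2
  · rintro ⟨x', hx', hx⟩
    let e : V ≃ₗ[K] Dual K (Dual K V) := Module.evalEquiv K V
    let x : Fin 4 → (V ≃ₗ[K] V) := fun i => e.trans ((x' i).symm.dualMap.trans e.symm)
    have hxx : ∀ i φ v, (x' i φ) (x i v) = φ v := by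
      intro i φ v
      have h1 : e (x i v) = (x' i).symm.dualMap (e v) := by
        simp [x]
      have h2 : ∀ (ψ : Dual K V) (u : V), e u ψ = ψ u := fun ψ u => rfl
      rw [← h2, h1]
      change e v ((x' i).symm (x' i φ)) = φ v
      rw [LinearEquiv.symm_apply_apply, h2]
    have hctr : ∀ i, Ctr (((x i).toEquiv : Equiv.Perm V)) (((x' i).toEquiv : Equiv.Perm (Dual K V))) := by
      intro i
      refine ⟨fun v w => map_add (x i) v w, RingEquiv.refl K, fun a v => map_smul (x i) a v, fun φ v => ?_⟩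
      exact hxx i φ v
    refine ⟨x, fun i => ?_, fun g hg hi => ?_⟩
    · have h1 : ((x i : V ≃ₗ[K] V) : V →ₗ[K] V) = (e.symm : Dual K (Dual K V) →ₗ[K] V) ∘ₗ
          (((x' i).symm : Dual K V →ₗ[K] Dual K V)).dualMap ∘ₗ ((e.symm.symm : V ≃ₗ[K] _) : V →ₗ[K] _) := by
        rfl
      rw [h1, LinearMap.det_conj, LinearMap.det_dualMap, LinearEquiv.det_coe_symm, hx', inv_one]
    · obtain ⟨g', hg'⟩ := exists_ctr (hS hg)
      obtain ⟨a, ha⟩ := hx g' ((mem_ctr S hS g').2 ⟨g, hg, hg'⟩) fun i =>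
        (mem_ctr S hS _).2 ⟨_, hi i, ((hctr i).mul hg').mul (hctr i).inv⟩
      subst ha
      obtain ⟨-, σ, hs, hgg⟩ := hg'
      refine ⟨a⁻¹, ?_⟩
      apply Equiv.ext
      intro v
      rw [hm_apply]
      -- `σ = 1` if `V ≠ 0`
      have h0 : ∀ c : K, ∀ φ : Dual K V, ∀ v, σ c * φ (g v) = c * φ (g v) := by
        intro c φ v
        have h1 : (a : K) * (σ c * φ (g v)) = σ (c * φ v) := by
          have h5 := hgg φ (c • v)
          rw [hs, map_smul φ, smul_eq_mul] at h5
          rw [← h5, hm_apply, LinearMap.smul_apply, map_smul, smul_eq_mul, smul_eq_mul]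
        have h2 : (a : K) * (c * φ (g v)) = σ (c * φ v) := by
          have h5 := hgg (c • φ) v
          rw [LinearMap.smul_apply, smul_eq_mul] at h5
          rw [← h5, hm_apply, LinearMap.smul_apply, LinearMap.smul_apply, smul_eq_mul, smul_eq_mul]
        have h3 : (a : K) * (σ c * φ (g v) - c * φ (g v)) = 0 := by linear_combination h1 - h2
        rcases mul_eq_zero.1 h3 with h4 | h4
        · exact absurd h4 a.ne_zero
        · exact sub_eq_zero.1 h4
      by_cases hv : g v = 0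
      · have h1 : v = 0 := by
          apply g.injective
          rw [hv]
          have := hs 0 0
          simp only [smul_zero, map_zero, zero_smul] at this
          exact this.symm
        rw [h1, smul_zero]
        rw [h1] at hv
        exact hv
      · have hσ : ∀ c, σ c = c := by
          intro c
          by_contra hc
          apply hv
          rw [← Module.forall_dual_apply_eq_zero_iff K]
          intro φ
          have h1 := h0 c φ v
          have h2 : (σ c - c) * φ (g v) = 0 := by rw [sub_mul, h1, sub_self]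
          rcases mul_eq_zero.1 h2 with h3 | h3
          · exact absurd (sub_eq_zero.1 h3) hc
          · exact h3
        have h1 : (a : K) • g v = v := by
          rw [← sub_eq_zero, ← Module.forall_dual_apply_eq_zero_iff K]
          intro φ
          have h2 := hgg φ v
          rw [hσ] at h2
          simp only [hm_apply, LinearMap.smul_apply] at h2
          rw [map_sub, map_smul, h2, sub_self]
        conv_rhs => rw [← h1]
        rw [smul_smul, ← Units.val_mul, inv_mul_cancel, Units.val_one, one_smul]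

end dual

end Cfsg.Agent.H246.FC
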