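import Cfsg.Agent.H246.FC.Rigid
import Cfsg.Agent.H754.FC.Sec

/-!
# S5764 [RED-III]: `red_three` (helper246)

`A < B` consecutive invariant subspaces with a 3-base on `B / A`, `a = dim A < n / 2`, `c = n - dim B`:
the case `a - c ≥ 3` and the case `(a, c) = (3, 1)`.
-/

set_option autoImplicit false

namespace Cfsg.Agent.H246.FC

open Cfsg.Agent.H198.FC Cfsg.Agent.H754.FC Module

universe u v

variable {K : Type u} [Field K] {V : Type v} [AddCommGroup V] [Module K V]

/-- an intermediate subspace of given dimension -/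
theorem exists_between' [Module.Finite K V] (U B : Submodule K V) (hUB : U ≤ B) (m : ℕ) (h1 : finrank K U ≤ m)
    (h2 : m ≤ finrank K B) : ∃ C, U ≤ C ∧ C ≤ B ∧ finrank K C = m := by
  induction m, h1 using Nat.le_induction with
  | base => exact ⟨U, le_rfl, hUB, rfl⟩
  | succ m hm ih =>
    obtain ⟨C, hUC, hCB, hC⟩ := ih (by omega)
    have h3 : ∃ v ∈ B, v ∉ C := by
      by_contra hcon
      push Not at hcon
      have h4 : B ≤ C := hcon
      have h5 := Submodule.finrank_mono h4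
      omega
    obtain ⟨v, hv, hvC⟩ := h3
    refine ⟨C ⊔ Submodule.span K {v}, hUC.trans le_sup_left, sup_le hCB ?_, ?_⟩
    · rw [Submodule.span_singleton_le_iff_mem]
      exact hv
    · rw [Submodule.finrank_sup_span_singleton hvC, hC]

theorem sec_move {S : Subgroup (Equiv.Perm V)} {A B : Submodule K V} {w : Fin 3 → V} (h : Sec S A B w)
    (y : V ≃ₗ[K] V) (k : Equiv.Perm V) (hk : (y.toEquiv : Equiv.Perm V)⁻¹ * k * (y.toEquiv : Equiv.Perm V) ∈ S)
    (c : Kˣ) (hw : ∀ j, k (y (w j)) = (c : K) • y (w j)) :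
    ∀ u ∈ B.map (y : V →ₗ[K] V), k u - (c : K) • u ∈ A.map (y : V →ₗ[K] V) := by
  rintro _ ⟨v, hv, rfl⟩
  have e : ∀ v, ((y.toEquiv : Equiv.Perm V)⁻¹ * k * (y.toEquiv : Equiv.Perm V)) v = y.symm (k (y v)) := fun v => rfl
  have h1 := h.scalar hk (c := c) (fun j => by
    rw [e, hw, map_smul, y.symm_apply_apply, sub_self]; exact A.zero_mem) v hv
  refine ⟨_, h1, ?_⟩
  rw [e]
  simp

theorem ext_top {g : Equiv.Perm V} (hg : g ∈ Semi K V) {c : Kˣ} {V₀ A B : Submodule K V}
    (h0 : ∀ v ∈ V₀, g v = (c : K) • v) (hB : ∀ v ∈ B, g v - (c : K) • v ∈ A) (ht : V₀ ⊔ B = ⊤) :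
    ∀ v, g v - (c : K) • v ∈ A := by
  intro v
  have hv : v ∈ V₀ ⊔ B := by rw [ht]; exact Submodule.mem_top
  obtain ⟨x, hx, b, hb, rfl⟩ := Submodule.mem_sup.1 hv
  rw [semi_add hg, h0 x hx, smul_add, add_sub_add_left_eq_sub]
  exact hB b hb

/-- the move back of an element fixing a subspace -/
theorem fix_move {S : Subgroup (Equiv.Perm V)} {A A' : Submodule K V} (hA : ∀ g ∈ S, ∀ v ∈ A, g v ∈ A)
    (y : V ≃ₗ[K] V) (hy : A.map (y : V →ₗ[K] V) = A') (k : Equiv.Perm V)
    (hk : (y.toEquiv : Equiv.Perm V)⁻¹ * k * (y.toEquiv : Equiv.Perm V) ∈ S) : ∀ v ∈ A', k v ∈ A' := by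
  subst hy
  rintro _ ⟨v, hv, rfl⟩
  refine ⟨y.symm (k (y v)), hA _ hk v hv, ?_⟩
  simp

theorem finrank_U [Module.Finite K V] (A : Submodule K V) (w : Fin 3 → V) :
    finrank K (A ⊔ Submodule.span K (Set.range w) : Submodule K V) ≤ finrank K A + 3 := by
  have h1 := Submodule.finrank_add_le_finrank_add_finrank A (Submodule.span K (Set.range w))
  have h2 := finrank_range_le_card (R := K) w
  rw [Fintype.card_fin] at h2
  change finrank K (Submodule.span K (Set.range w)) ≤ 3 at h2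
  omega

/-- case (III): `a ≥ c + 3` -/
theorem red_three_a [Finite K] [Module.Finite K V] {S : Subgroup (Equiv.Perm V)} {A B : Submodule K V} {w : Fin 3 → V}
    (h : Sec S A B w) (c : ℕ) (hc : finrank K B + c = finrank K V) (hn : 2 * finrank K A < finrank K V)
    (h3 : c + 3 ≤ finrank K A) : FiveV K V S := by
  have hU1 := finrank_U A w
  have hUB : A ⊔ Submodule.span K (Set.range w) ≤ B :=
    sup_le h.le (Submodule.span_le.2 (by rintro _ ⟨j, rfl⟩; exact h.mem j))
  obtain ⟨C, hUC, hCB, hC⟩ := exists_between' (A ⊔ Submodule.span K (Set.range w)) B hUB (2 * finrank K A - c)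
    (by omega) (by omega)
  obtain ⟨D, hD⟩ := Submodule.exists_isCompl B
  have hD' := Submodule.finrank_add_eq_of_isCompl hD
  have hCD : Disjoint C D := hD.disjoint.mono_left hCB
  have hV0 : finrank K (C ⊔ D : Submodule K V) = 2 * finrank K A := by
    have := Submodule.finrank_sup_add_finrank_inf_eq C D
    rw [hCD.eq_bot, finrank_bot] at this
    omega
  have hVB : (C ⊔ D) ⊔ B = ⊤ := by
    rw [sup_assoc, sup_comm D B, ← sup_assoc, sup_eq_right.2 hCB, hD.sup_eq_top]
  have hAV : A ≤ C ⊔ D := le_sup_left.trans (hUC.trans le_sup_left)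
  have hwV : ∀ j, w j ∈ C ⊔ D := fun j =>
    (le_sup_right.trans (hUC.trans le_sup_left) : Submodule.span K (Set.range w) ≤ C ⊔ D)
      (Submodule.subset_span ⟨j, rfl⟩)
  obtain ⟨A', hA0, hA1, hA', hrig⟩ := rigid5 A (C ⊔ D) hAV (finrank K A) rfl (Or.inl hV0)
  have hy : ∀ i, ∃ y : V ≃ₗ[K] V, LinearMap.det (y : V →ₗ[K] V) = 1 ∧ A.map (y : V →ₗ[K] V) = A' i ∧
      (C ⊔ D).map (y : V →ₗ[K] V) = C ⊔ D := fun i =>
    move_flag A (C ⊔ D) (A' i) (C ⊔ D) hAV (hA' i).1 (hA' i).2.symm rfl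
  choose y hy1 hy2 hy3 using hy
  refine fiveV_of (fun i => y i.succ) (fun i => hy1 _) fun g hg hi => ?_
  have hgS := h.semi hg
  obtain ⟨l, hl⟩ := hrig g hgS fun i v hv => by
    rcases Fin.eq_zero_or_eq_succ i with rfl | ⟨j, rfl⟩
    · rw [hA0] at hv ⊢
      exact h.invA g hg v hv
    · exact fix_move h.invA (y j.succ) (hy2 _) g (hi j) v hv
  have h1 : ∀ v, g v - (l : K) • v ∈ A := ext_top hgS hl
    (h.scalar hg fun j => by rw [hl _ (hwV j), sub_self]; exact A.zero_mem) hVB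
  have h2 : ∀ v, g v - (l : K) • v ∈ A' 1 := by
    refine ext_top hgS (B := B.map (y 1 : V →ₗ[K] V)) hl ?_ ?_
    · intro u hu
      rw [← hy2 1]
      refine sec_move h (y 1) g (hi 0) l (fun j => hl _ ?_) u hu
      rw [← hy3 1]
      exact ⟨w j, hwV j, rfl⟩
    · conv_lhs => rw [← hy3 1]
      rw [← Submodule.map_sup, hVB, Submodule.map_top, LinearEquiv.range]
  refine ⟨l, Equiv.ext fun v => ?_⟩
  have h3 := (Submodule.disjoint_def.1 hA1) _ (by rw [hA0]; exact h1 v) (h2 v)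
  exact sub_eq_zero.1 h3

/-- RIGID5(a, 2a) with two pairs of complements -/
theorem rigid5_two [Finite K] [Module.Finite K V] (A V₀ : Submodule K V) (hA : A ≤ V₀) (a : ℕ) (ha : finrank K A = a)
    (ha0 : 1 ≤ a) (h : finrank K V₀ = 2 * a) :
    ∃ B : Fin 5 → Submodule K V, B 0 = A ∧ Disjoint (B 0) (B 1) ∧ Disjoint (B 2) (B 3) ∧
      (∀ i, B i ≤ V₀ ∧ finrank K (B i) = a) ∧ Rig B V₀ := by
  obtain ⟨γ, hγ0, hγ⟩ := exists_gamma K
  obtain ⟨n, rfl⟩ : ∃ n, a = n + 1 := ⟨a - 1, by omega⟩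
  let b := Pi.basisFun K (Fin (n + 1))
  let X : (Fin (n + 1) → K) →ₗ[K] (Fin (n + 1) → K) := b.constr K (Fin.cases 0 fun j => b j.castSucc)
  let Y : (Fin (n + 1) → K) →ₗ[K] (Fin (n + 1) → K) := b.constr K (Fin.cases (γ • b (Fin.last n)) fun _ => 0)
  have hX0 : X (b 0) = 0 := by simp [X]
  have hX : ∀ j : Fin n, X (b j.succ) = b j.castSucc := by intro j; simp [X]
  have hY0 : Y (b 0) = γ • b (Fin.last n) := by simp [Y]
  have hY : ∀ j : Fin n, Y (b j.succ) = 0 := by intro j; simp [Y]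
  have hgen : Gen X Y := gen_of b hγ hγ0 X Y hX hY0 hY
  have hW : finrank K (Fin (n + 1) → K) = n + 1 := by simp
  -- `X z = z` implies `z = 0`
  have hX1 : ∀ z, X z = z → z = 0 := by
    intro z hz
    have h5 : X z = ∑ i : Fin n, b.repr z i.succ • b i.castSucc := by
      conv_lhs => rw [← b.sum_repr z]
      rw [map_sum, Fin.sum_univ_succ]
      simp [hX0, hX]
    have h6 : ∀ i : Fin (n + 1), b.repr z i = 0 := by
      intro i
      induction i using Fin.reverseInduction with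
      | last =>
        rw [← hz, h5]
        simp [Fin.castSucc_ne_last]
      | cast j ih =>
        conv_lhs => rw [← hz, h5]
        simp [Finsupp.single_apply, Fin.castSucc_inj]
        simpa using ih
    apply b.repr.injective
    ext i
    rw [h6, map_zero, Finsupp.zero_apply]
  obtain ⟨ι, hι, hr, hιA⟩ := exists_split A V₀ hA (Fin (n + 1) → K) (Fin (n + 1) → K) (by omega) (by omega)
  let f : Fin 5 → ((Fin (n + 1) → K) →ₗ[K] (Fin (n + 1) → K) × (Fin (n + 1) → K)) :=
    ![LinearMap.inl K _ _, LinearMap.inr K _ _, LinearMap.prod LinearMap.id LinearMap.id,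
      LinearMap.prod LinearMap.id X, LinearMap.prod LinearMap.id Y]
  have hf : ∀ i, Function.Injective (f i) := by
    intro i
    fin_cases i
    · exact LinearMap.inl_injective
    · exact LinearMap.inr_injective
    · exact fun z w h => (Prod.mk.inj h).1
    · exact fun z w h => (Prod.mk.inj h).1
    · exact fun z w h => (Prod.mk.inj h).1
  refine ⟨fun i => LinearMap.range (ι ∘ₗ f i), ?_, ?_, ?_, fun i => ⟨?_, ?_⟩, ?_⟩
  · ext v
    rw [hιA]
    rfl
  · rw [Submodule.disjoint_def]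
    rintro _ ⟨z, rfl⟩ ⟨w, hw⟩
    have h1 : z = 0 := (Prod.mk.inj (hι hw.symm)).1
    rw [h1, map_zero]
  · rw [Submodule.disjoint_def]
    rintro _ ⟨z, rfl⟩ ⟨w, hw⟩
    have h1 := Prod.mk.inj (hι hw.symm)
    have h2 : z = w := h1.1
    have h3 : z = X w := h1.2
    have h4 : z = 0 := hX1 z (by rw [h2] at h3; rw [h2]; exact h3.symm)
    rw [h4, map_zero]
  · rw [← hr]
    rintro _ ⟨z, rfl⟩
    exact ⟨_, rfl⟩
  · have h9 : Function.Injective (ι ∘ₗ f i) := hι.comp (hf i)
    exact (LinearMap.finrank_range_of_inj h9).trans hW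
  · intro k hk hi
    have hi' : ∀ i z, ∃ z', k (ι (f i z)) = ι (f i z') := fun i z => by
      obtain ⟨z', hz'⟩ := hi i (ι (f i z)) ⟨z, rfl⟩
      exact ⟨z', hz'.symm⟩
    obtain ⟨c, hc⟩ := rigid2 ι hι X Y hgen k hk (fun z => by simpa [f] using hi' 0 z)
      (fun z => by simpa [f] using hi' 1 z) (fun z => by simpa [f] using hi' 2 z)
      (fun z => by simpa [f] using hi' 3 z) (fun z => by simpa [f] using hi' 4 z)
    refine ⟨c, ?_⟩
    rw [← hr]
    rintro _ ⟨z, rfl⟩
    exact hc z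

/-- extending an adapted independent family from `B` to `C` -/
theorem ext_step [Module.Finite K V] {ι : Type*} (u : ι → V) (hu : LinearIndependent K u) (B C : Submodule K V)
    (hB : Submodule.span K (Set.range u) = B) (hBC : B ≤ C) (d : ℕ) (hd : finrank K B + d = finrank K C) :
    ∃ t : Fin d → V, LinearIndependent K (Sum.elim u t) ∧ Submodule.span K (Set.range (Sum.elim u t)) = C := by
  obtain ⟨κ, hκ, hr, hκB⟩ := exists_split B C hBC B (Fin d → K) rfl (by simpa using hd)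
  let t : Fin d → V := fun i => κ (0, Pi.basisFun K (Fin d) i)
  have h1 : t = (κ ∘ₗ LinearMap.inr K B (Fin d → K)) ∘ (Pi.basisFun K (Fin d)) := by
    funext i
    simp [t]
  have ht : LinearIndependent K t := by
    rw [h1]
    exact (Pi.basisFun K (Fin d)).linearIndependent.map' _
      (LinearMap.ker_eq_bot.2 (hκ.comp LinearMap.inr_injective))
  have hts : Submodule.span K (Set.range t) = LinearMap.range (κ ∘ₗ LinearMap.inr K B (Fin d → K)) := by
    rw [h1, Set.range_comp, Submodule.span_image, (Pi.basisFun K (Fin d)).span_eq, Submodule.map_top]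
  have hdis : Disjoint B (LinearMap.range (κ ∘ₗ LinearMap.inr K B (Fin d → K))) := by
    rw [Submodule.disjoint_def]
    rintro x hx ⟨z, hz⟩
    obtain ⟨y, hy⟩ := (hκB x).1 hx
    have h2 : κ (0, z) = κ (y, 0) := by rw [hy, ← hz]; rfl
    have h3 := (Prod.mk.inj (hκ h2)).2
    rw [← hz, h3, map_zero]
  refine ⟨t, hu.sum_type ht (by rw [hB, hts]; exact hdis), ?_⟩
  rw [Set.Sum.elim_range, Submodule.span_union, hB, hts, ← hr]
  apply le_antisymm
  · refine sup_le ?_ ?_
    · intro x hx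
      obtain ⟨y, hy⟩ := (hκB x).1 hx
      exact ⟨_, hy⟩
    · rintro _ ⟨z, rfl⟩
      exact ⟨_, rfl⟩
  · rintro _ ⟨⟨y, z⟩, rfl⟩
    refine Submodule.mem_sup.2 ⟨κ (y, 0), (hκB _).2 ⟨y, rfl⟩, κ (0, z), ⟨z, rfl⟩, ?_⟩
    rw [← map_add]
    simp

/-- moving flags `A ≤ B ≤ C` by `SL(V)` -/
theorem move_flag3 [Module.Finite K V] (A B C A' B' C' : Submodule K V) (hAB : A ≤ B) (hBC : B ≤ C) (hAB' : A' ≤ B')
    (hBC' : B' ≤ C')
    (hA : finrank K A = finrank K A') (hB : finrank K B = finrank K B') (hC : finrank K C = finrank K C') :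
    ∃ x : V ≃ₗ[K] V, LinearMap.det (x : V →ₗ[K] V) = 1 ∧ A.map (x : V →ₗ[K] V) = A' ∧
      B.map (x : V →ₗ[K] V) = B' ∧ C.map (x : V →ₗ[K] V) = C' := by
  have h1 : finrank K A ≤ finrank K B := Submodule.finrank_mono hAB
  have h2 : finrank K B ≤ finrank K C := Submodule.finrank_mono hBC
  have h3 : finrank K C ≤ finrank K V := Submodule.finrank_le C
  have key : ∀ A B C : Submodule K V, A ≤ B → B ≤ C → ∀ a b c d : ℕ, finrank K A = a → finrank K A + b = finrank K B →
      finrank K B + c = finrank K C → finrank K C + d = finrank K V →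
      ∃ β : Basis (((Fin a ⊕ Fin b) ⊕ Fin c) ⊕ Fin d) K V,
        Submodule.span K (Set.range fun i => β (Sum.inl (Sum.inl (Sum.inl i)))) = A ∧
        Submodule.span K (Set.range fun i => β (Sum.inl (Sum.inl i))) = B ∧
        Submodule.span K (Set.range fun i => β (Sum.inl i)) = C := by
    intro A B C hAB hBC a b c d ha hb hc hd
    let βA : Basis (Fin a) K A := finBasisOfFinrankEq K A ha
    have hvA : LinearIndependent K (fun i => (βA i : V)) :=
      βA.linearIndependent.map' A.subtype (Submodule.ker_subtype A)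
    have hsA : Submodule.span K (Set.range fun i => (βA i : V)) = A := by
      have h1 : (fun i => (βA i : V)) = A.subtype ∘ βA := rfl
      rw [h1, Set.range_comp, Submodule.span_image, βA.span_eq, Submodule.map_top, Submodule.range_subtype]
    obtain ⟨t, ht1, ht2⟩ := ext_step _ hvA A B hsA hAB b hb
    obtain ⟨t', ht1', ht2'⟩ := ext_step _ ht1 B C ht2 hBC c hc
    obtain ⟨t'', ht1'', ht2''⟩ := ext_step _ ht1' C ⊤ ht2' le_top d (by rw [hd, finrank_top])
    refine ⟨Basis.mk ht1'' (by rw [ht2'']), ?_, ?_, ?_⟩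
    · simpa using hsA
    · simpa using ht2
    · simpa using ht2'
  obtain ⟨b, hb1, hb2, hb3⟩ := key A B C hAB hBC (finrank K A) (finrank K B - finrank K A)
    (finrank K C - finrank K B) (finrank K V - finrank K C) rfl (by omega) (by omega) (by omega)
  obtain ⟨b', hb1', hb2', hb3'⟩ := key A' B' C' hAB' hBC' (finrank K A) (finrank K B - finrank K A)
    (finrank K C - finrank K B) (finrank K V - finrank K C) hA.symm (by omega) (by omega) (by omega)
  obtain ⟨x, hx, h⟩ := move_basis' b b'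
  refine ⟨x, hx, ?_, ?_, ?_⟩
  · rw [← hb1, ← hb1']
    exact map_span_of x _ _ fun i => h _
  · rw [← hb2, ← hb2']
    exact map_span_of x _ _ fun i => h _
  · rw [← hb3, ← hb3']
    exact map_span_of x _ _ fun i => h _

/-- case (IV): `(a, c) = (3, 1)` -/
theorem red_three_b [Finite K] [Module.Finite K V] {S : Subgroup (Equiv.Perm V)} {A B : Submodule K V} {w : Fin 3 → V}
    (h : Sec S A B w) (hc : finrank K B + 1 = finrank K V) (hn : 2 * finrank K A < finrank K V)
    (h3 : finrank K A = 3) : FiveV K V S := by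
  by_cases h7 : finrank K V = 7
  · exact fiveV_rigid S h.semi A h.invA 3 h3 (Or.inr (Or.inl ⟨by omega, by omega⟩))
  have hU1 := finrank_U A w
  have hUB : A ⊔ Submodule.span K (Set.range w) ≤ B :=
    sup_le h.le (Submodule.span_le.2 (by rintro _ ⟨j, rfl⟩; exact h.mem j))
  obtain ⟨V₀, hUV, hVB, hV0⟩ := exists_between' (A ⊔ Submodule.span K (Set.range w)) B hUB 6 (by omega) (by omega)
  have hAV : A ≤ V₀ := le_sup_left.trans hUV
  have hwV : ∀ j, w j ∈ V₀ := fun j =>
    (le_sup_right.trans hUV : Submodule.span K (Set.range w) ≤ V₀) (Submodule.subset_span ⟨j, rfl⟩)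
  -- another hyperplane
  obtain ⟨H, hH1, hH2, hH3⟩ : ∃ H : Submodule K V, V₀ ≤ H ∧ finrank K H = finrank K B ∧ B ⊔ H = ⊤ := by
    obtain ⟨v, hv, hv0⟩ : ∃ v ∈ B, v ∉ V₀ := by
      by_contra hcon
      push Not at hcon
      have h4 : B ≤ V₀ := hcon
      have h5 := Submodule.finrank_mono h4
      omega
    obtain ⟨E, hE⟩ := Submodule.exists_isCompl (V₀ ⊔ Submodule.span K {v})
    have hE' := Submodule.finrank_add_eq_of_isCompl hE
    rw [Submodule.finrank_sup_span_singleton hv0] at hE'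
    have hd : Disjoint V₀ E := hE.disjoint.mono_left le_sup_left
    refine ⟨V₀ ⊔ E, le_sup_left, ?_, ?_⟩
    · have := Submodule.finrank_sup_add_finrank_inf_eq V₀ E
      rw [hd.eq_bot, finrank_bot] at this
      omega
    · rw [eq_top_iff, ← hE.sup_eq_top]
      refine sup_le (sup_le (le_sup_left.trans le_sup_right) ?_) (le_sup_right.trans le_sup_right)
      rw [Submodule.span_singleton_le_iff_mem]
      exact Submodule.mem_sup_left hv
  obtain ⟨A', hA0, hA1, hA2, hA', hrig⟩ := rigid5_two A V₀ hAV 3 h3 (by omega) (by omega)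
  let B' : Fin 5 → Submodule K V := ![B, B, H, H, B]
  have hB' : ∀ i, V₀ ≤ B' i ∧ finrank K (B' i) = finrank K B := by
    intro i
    fin_cases i
    · exact ⟨hVB, rfl⟩
    · exact ⟨hVB, rfl⟩
    · exact ⟨hH1, hH2⟩
    · exact ⟨hH1, hH2⟩
    · exact ⟨hVB, rfl⟩
  have hy : ∀ i, ∃ y : V ≃ₗ[K] V, LinearMap.det (y : V →ₗ[K] V) = 1 ∧ A.map (y : V →ₗ[K] V) = A' i ∧
      V₀.map (y : V →ₗ[K] V) = V₀ ∧ B.map (y : V →ₗ[K] V) = B' i := fun i =>
    move_flag3 A V₀ B (A' i) V₀ (B' i) hAV hVB (hA' i).1 (hB' i).1 (h3.trans (hA' i).2.symm) rfl (hB' i).2.symm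
  choose y hy1 hy2 hy3 hy4 using hy
  refine fiveV_of (fun i => y i.succ) (fun i => hy1 _) fun g hg hi => ?_
  have hgS := h.semi hg
  obtain ⟨l, hl⟩ := hrig g hgS fun i v hv => by
    rcases Fin.eq_zero_or_eq_succ i with rfl | ⟨j, rfl⟩
    · rw [hA0] at hv ⊢
      exact h.invA g hg v hv
    · exact fix_move h.invA (y j.succ) (hy2 _) g (hi j) v hv
  have h0 : ∀ v ∈ B, g v - (l : K) • v ∈ A :=
    h.scalar hg fun j => by rw [hl _ (hwV j), sub_self]; exact A.zero_mem
  have hs : ∀ i : Fin 4, ∀ u ∈ B' i.succ, g u - (l : K) • u ∈ A' i.succ := by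
    intro i u hu
    rw [← hy4] at hu
    rw [← hy2]
    refine sec_move h (y i.succ) g (hi i) l (fun j => hl _ ?_) u hu
    rw [← hy3 i.succ]
    exact ⟨w j, hwV j, rfl⟩
  have hB0 : ∀ v ∈ B, g v - (l : K) • v = 0 := fun v hv =>
    (Submodule.disjoint_def.1 hA1) _ (by rw [hA0]; exact h0 v hv) (hs 0 v hv)
  have hH0 : ∀ v ∈ H, g v - (l : K) • v = 0 := fun v hv =>
    (Submodule.disjoint_def.1 hA2) _ (hs 1 v hv) (hs 2 v hv)
  refine ⟨l, Equiv.ext fun v => ?_⟩
  have hv : v ∈ B ⊔ H := by rw [hH3]; exact Submodule.mem_top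
  obtain ⟨x, hx, z, hz, rfl⟩ := Submodule.mem_sup.1 hv
  change g (x + z) = (l : K) • (x + z)
  rw [semi_add hgS, sub_eq_zero.1 (hB0 x hx), sub_eq_zero.1 (hH0 z hz), smul_add]

/-- **RED-III** -/
theorem red_three [Finite K] [Module.Finite K V] {S : Subgroup (Equiv.Perm V)} {A B : Submodule K V} {w : Fin 3 → V}
    (h : Sec S A B w) (c : ℕ) (hc : finrank K B + c = finrank K V) (hn : 2 * finrank K A < finrank K V)
    (h3 : c + 3 ≤ finrank K A ∨ (finrank K A = 3 ∧ c = 1)) : FiveV K V S := by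
  rcases h3 with h3 | ⟨h3, rfl⟩
  · exact red_three_a h c hc hn h3
  · exact red_three_b h hc hn h3

end Cfsg.Agent.H246.FC
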